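import Mathlib
import Cfsg.Agent.Lib.CosetTable.Check

/-! Generated certificate data for the coset table `Fi22SimpleMax2`. -/

namespace Cfsg.Agent.Lib.CosetTable.Fi22SimpleMax2

open Cfsg.Agent.Lib.CosetTable

set_option maxRecDepth 10000

def facts : T := .leaf 0x100000400000900000000002100000000000800000000000700000000000600000000000500000000000400000000000300000000000200000000000000000000001300000000001100000000001000000000000f00000000000e00000000000d00000000000c00000000000b00000000000a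

def defs : T := .leaf 0x1000000000000

def nodeT : ℕ := 0x0

def parT : ℕ := 0x0

def perm0 : ℕ := 0x0

def eid0 : ℕ := 0x9

def perm1 : ℕ := 0x0

def eid1 : ℕ := 0x13

def perm2 : ℕ := 0x0

def eid2 : ℕ := 0xa

def perm3 : ℕ := 0x0

def eid3 : ℕ := 0xb

def perm4 : ℕ := 0x0

def eid4 : ℕ := 0xc

def perm5 : ℕ := 0x0

def eid5 : ℕ := 0xd

def perm6 : ℕ := 0x0

def eid6 : ℕ := 0xe

def perm7 : ℕ := 0x0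

def eid7 : ℕ := 0xf

def perm8 : ℕ := 0x0

def eid8 : ℕ := 0x10

def rulesT : RT := .node (.node (.node (.node (.leaf 0 [10] 96 0) (.leaf 9 [1, 19] 105 1)) (.node (.leaf 5 [14] 100 0) (.leaf 9 [] 0 0))) (.node (.node (.leaf 3 [12] 98 0) (.leaf 9 [] 0 0)) (.node (.leaf 7 [16] 102 0) (.leaf 9 [] 0 0)))) (.node (.node (.node (.leaf 2 [11] 97 0) (.leaf 1 [1] 0 0)) (.node (.leaf 6 [15] 101 0) (.leaf 9 [] 0 0))) (.node (.node (.leaf 4 [13] 99 0) (.leaf 9 [] 0 0)) (.node (.leaf 8 [17] 103 0) (.leaf 9 [] 0 0))))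

def relsL : List (List ℕ) := [[0, 0],
  [0, 1, 0, 1, 0, 1],
  [0, 2, 0, 2],
  [0, 3, 0, 3],
  [0, 4, 0, 4],
  [0, 5, 0, 5],
  [0, 6, 0, 6],
  [0, 7, 0, 7],
  [0, 8, 0, 8],
  [1, 1],
  [1, 2, 1, 2, 1, 2],
  [1, 3, 1, 3],
  [1, 4, 1, 4],
  [1, 5, 1, 5],
  [1, 6, 1, 6],
  [1, 7, 1, 7],
  [1, 8, 1, 8],
  [2, 2],
  [2, 3, 2, 3, 2, 3],
  [2, 4, 2, 4],
  [2, 5, 2, 5],
  [2, 6, 2, 6],
  [2, 7, 2, 7],
  [2, 8, 2, 8],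
  [3, 3],
  [3, 4, 3, 4, 3, 4],
  [3, 5, 3, 5],
  [3, 6, 3, 6],
  [3, 7, 3, 7, 3, 7],
  [3, 8, 3, 8],
  [4, 4],
  [4, 5, 4, 5, 4, 5],
  [4, 6, 4, 6],
  [4, 7, 4, 7],
  [4, 8, 4, 8],
  [5, 5],
  [5, 6, 5, 6, 5, 6],
  [5, 7, 5, 7],
  [5, 8, 5, 8],
  [6, 6],
  [6, 7, 6, 7],
  [6, 8, 6, 8],
  [7, 7],
  [7, 8, 7, 8, 7, 8],
  [8, 8],
  [3, 2, 1, 3, 4, 5, 3, 7, 8, 3, 2, 1, 3, 4, 5, 3, 7, 8, 3, 2, 1, 3, 4, 5, 3, 7, 8, 3, 2, 1, 3, 4, 5, 3, 7, 8, 3, 2, 1, 3, 4, 5, 3, 7, 8, 3, 2, 1, 3, 4, 5, 3, 7, 8, 3, 2, 1, 3, 4, 5, 3, 7, 8, 3, 2, 1, 3, 4, 5, 3, 7, 8, 3, 2, 1, 3, 4, 5, 3, 7, 8, 3, 2, 1, 3, 4, 5, 3, 7, 8],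
  [0, 1, 2, 3, 4, 5, 7, 0, 1, 2, 3, 4, 5, 7, 0, 1, 2, 3, 4, 5, 7, 0, 1, 2, 3, 4, 5, 7, 0, 1, 2, 3, 4, 5, 7, 0, 1, 2, 3, 4, 5, 7, 0, 1, 2, 3, 4, 5, 7, 0, 1, 2, 3, 4, 5, 7, 0, 1, 2, 3, 4, 5, 7],
  [1, 2, 3, 4, 5, 6, 7, 1, 2, 3, 4, 5, 6, 7, 1, 2, 3, 4, 5, 6, 7, 1, 2, 3, 4, 5, 6, 7, 1, 2, 3, 4, 5, 6, 7, 1, 2, 3, 4, 5, 6, 7, 1, 2, 3, 4, 5, 6, 7, 1, 2, 3, 4, 5, 6, 7, 1, 2, 3, 4, 5, 6, 7]]

def subsL : List (List ℕ) := [[0],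
  [2],
  [3],
  [4],
  [5],
  [6],
  [7],
  [8],
  [0, 1, 2, 3, 4, 7, 0, 1, 2, 3, 4, 7, 0, 1, 2, 3, 4, 7, 0, 1, 2, 3, 4, 7, 0, 1, 2, 3, 4, 7],
  [1]]

def cert : Cert where
  k := 9
  rels := relsL
  subs := subsL
  rules := rulesT
  facts := facts
  defs := defs

def tab : Table where
  n := 1
  k := 9
  node := nodeT
  perms := [perm0, perm1, perm2, perm3, perm4, perm5, perm6, perm7, perm8]
  eids := [eid0, eid1, eid2, eid3, eid4, eid5, eid6, eid7, eid8]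
  par := parT

end Cfsg.Agent.Lib.CosetTable.Fi22SimpleMax2
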